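/-
Alternating sums of chains with steps prescribed by the permutations `κ` with `κ i ≤ i + 1`:
they give the Moebius function.
-/
import Mathlib

set_option autoImplicit false
set_option linter.style.haveILetI false
set_option linter.unusedSectionVars false

namespace Cfsg.Agent.StGL

open Finset

variable {n : ℕ}

/-- the shifts of a permutation -/
def stp (κ : Equiv.Perm (Fin n)) (i : Fin n) : ℕ := 1 + i.val - (κ i).val

/-- a permutation moving up by at most one -/
def UpOne (κ : Equiv.Perm (Fin n)) : Prop := ∀ i : Fin n, (κ i).val ≤ 1 + i.val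

theorem sign_upOne {κ : Equiv.Perm (Fin n)} (h : UpOne κ) :
    ((Equiv.Perm.sign κ : ℤ) : ℂ) = ∏ i : Fin n, if (κ i).val = i.val + 1 then (-1 : ℂ) else 1 := by
  suffices H : ∀ (k : ℕ) (κ : Equiv.Perm (Fin n)), UpOne κ → (∀ i : Fin n, i.val + k < n → κ i = i) →
      ((Equiv.Perm.sign κ : ℤ) : ℂ) = ∏ i : Fin n, if (κ i).val = i.val + 1 then (-1 : ℂ) else 1 from
    H n κ h fun i hi => absurd hi (by omega)
  intro k
  induction k with
  | zero =>
    intro κ _ hfix
    have : κ = 1 := Equiv.ext fun i => hfix i (by omega)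
    subst this
    rw [prod_eq_one fun i _ => if_neg (by simp)]
    simp
  | succ k ih =>
    intro κ hκ hfix
    rcases Nat.lt_or_ge k n with hk | hk
    swap
    · exact ih κ hκ fun i hi => absurd hi (by omega)
    set a : Fin n := ⟨n - (k + 1), by omega⟩ with ha
    have hav : a.val = n - (k + 1) := rfl
    have hge : a.val ≤ (κ a).val := by
      by_contra hlt
      have h1 := hfix (κ a) (by omega)
      exact absurd (congrArg Fin.val (κ.injective h1)) (by omega)
    rcases Nat.eq_or_lt_of_le hge with he | hlt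
    · refine ih κ hκ fun i hi => ?_
      rcases Nat.lt_or_ge i.val a.val with h1 | h1
      · exact hfix i (by omega)
      · have : i = a := Fin.ext (by omega)
        subst this
        exact Fin.ext he.symm
    · have he : (κ a).val = a.val + 1 := by have := hκ a; omega
      set κ' := Equiv.swap a (κ a) * κ with hκ'
      have hne : a ≠ κ a := fun h => by rw [← h] at he; omega
      have key : ∀ i : Fin n, (κ' i = a ∧ i = a) ∨
          (i ≠ a ∧ κ i = a ∧ a.val < i.val ∧ (κ' i).val = a.val + 1) ∨ (i ≠ a ∧ κ i ≠ a ∧ κ' i = κ i) := by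
        intro i
        rw [hκ', Equiv.Perm.mul_apply]
        by_cases hi : i = a
        · subst hi
          exact Or.inl ⟨Equiv.swap_apply_right _ _, rfl⟩
        by_cases hka : κ i = a
        · refine Or.inr (Or.inl ⟨hi, hka, ?_, ?_⟩)
          · by_contra hle
            have hlt' : i.val < a.val := lt_of_le_of_ne (not_lt.1 hle) fun h => hi (Fin.ext h)
            have := hfix i (by omega)
            exact hi (this.symm.trans hka)
          · rw [hka, Equiv.swap_apply_left, he]
        · exact Or.inr (Or.inr ⟨hi, hka, Equiv.swap_apply_of_ne_of_ne hka fun h => hi (κ.injective h)⟩)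
      have h1 : UpOne κ' := fun i => by
        rcases key i with ⟨e, rfl⟩ | ⟨-, -, h2, e⟩ | ⟨-, -, e⟩
        · rw [e]; omega
        · rw [e]; omega
        · rw [e]; exact hκ i
      have h2 : ∀ i : Fin n, i.val + k < n → κ' i = i := fun i hi => by
        rcases key i with ⟨e, rfl⟩ | ⟨-, -, h2, -⟩ | ⟨hne', -, e⟩
        · exact e
        · omega
        · rw [e]
          refine hfix i ?_
          have : i.val ≠ a.val := fun h => hne' (Fin.ext h)
          omega
      have hs := ih κ' h1 h2
      have hsg : ((Equiv.Perm.sign κ' : ℤ) : ℂ) = -((Equiv.Perm.sign κ : ℤ) : ℂ) := by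
        rw [hκ', map_mul, Equiv.Perm.sign_swap hne]
        push_cast
        ring
      rw [hsg, ← mul_prod_erase univ _ (mem_univ a), if_neg (by
        rw [hκ', Equiv.Perm.mul_apply, Equiv.swap_apply_right]; omega), one_mul] at hs
      rw [← mul_prod_erase univ _ (mem_univ a), if_pos he]
      have hrest : ∀ i ∈ univ.erase a, (if (κ' i).val = i.val + 1 then (-1 : ℂ) else 1) =
          if (κ i).val = i.val + 1 then (-1 : ℂ) else 1 := by
        intro i hi
        rcases key i with ⟨-, rfl⟩ | ⟨-, h3, h4, e⟩ | ⟨-, -, e⟩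
        · exact absurd rfl (ne_of_mem_erase hi)
        · rw [e, h3, if_neg (by omega), if_neg (by omega)]
        · rw [e]
      rw [prod_congr rfl hrest] at hs
      rw [← hs]
      ring

section

variable {L : Type*} [Fintype L] [DecidableEq L] [PartialOrder L] [OrderBot L] [DecidableLE L] (dm : L → ℕ)

/-- a step -/
def stepW (a b : L) (i : ℕ) : ℂ :=
  if a = b then -1 else if a ≤ b ∧ dm b = i + 1 then 1 else 0

/-- the weight of a sequence -/
def chainW (W : Fin (n + 1) → L) : ℂ :=
  (if W 0 = ⊥ then 1 else 0) * ∏ i : Fin n, stepW dm (W i.castSucc) (W i.succ) i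

theorem sum_chainW (hs : StrictMono dm) (h0 : dm ⊥ = 0) (w : L → ℂ) (hw0 : w ⊥ = 1)
    (hw : ∀ U, U ≠ ⊥ → ∑ V ∈ univ.filter (fun V => V ≤ U), w V = 0) :
    ∀ (j : ℕ) (U : L), ∑ W : Fin (j + 1) → L, (if W (Fin.last j) = U then chainW dm W else 0) =
      if dm U ≤ j then (-1 : ℂ) ^ j * w U else 0 := by
  intro j
  induction j with
  | zero =>
    intro U
    rw [Fintype.sum_eq_single (fun _ => U)]
    · simp only [chainW, univ_eq_empty, prod_empty, mul_one, if_true, pow_zero, one_mul]
      by_cases hU : U = ⊥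
      · subst hU
        rw [if_pos rfl, if_pos (h0.le), hw0]
      · rw [if_neg hU, if_neg]
        have := hs (bot_lt_iff_ne_bot.2 hU)
        omega
    · intro W hW
      rw [if_neg]
      intro h
      exact hW (funext fun i => (congrArg W (Fin.fin_one_eq_zero i)).trans h)
  | succ j ih =>
    intro U
    have hsplit : ∀ p : L × (Fin (j + 1) → L),
        (if (Fin.snoc p.2 p.1 : Fin (j + 2) → L) (Fin.last (j + 1)) = U then chainW dm (Fin.snoc p.2 p.1) else 0) =
        if p.1 = U then chainW dm p.2 * stepW dm (p.2 (Fin.last j)) p.1 j else 0 := by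
      rintro ⟨b, W⟩
      simp only [Fin.snoc_last, chainW]
      refine if_congr Iff.rfl ?_ rfl
      rw [Fin.prod_univ_castSucc, show (0 : Fin (j + 2)) = Fin.castSucc 0 from rfl, Fin.snoc_castSucc,
        Fin.succ_last, Fin.snoc_last, Fin.snoc_castSucc, Fin.val_last, ← mul_assoc]
      refine congrArg (· * _) (congrArg (_ * ·) (prod_congr rfl fun i _ => ?_))
      rw [Fin.succ_castSucc, Fin.snoc_castSucc, Fin.snoc_castSucc, Fin.val_castSucc]
    rw [← Equiv.sum_comp (Fin.snocEquiv fun _ : Fin (j + 2) => L)]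
    refine (sum_congr rfl fun p _ => hsplit p).trans ?_
    rw [Fintype.sum_prod_type, sum_eq_single U (fun b _ hb => by simp [hb])
      (fun h => absurd (mem_univ U) h)]
    have : ∀ W : Fin (j + 1) → L, (if U = U then chainW dm W * stepW dm (W (Fin.last j)) U j else 0) =
        ∑ V : L, (if W (Fin.last j) = V then chainW dm W else 0) * stepW dm V U j := fun W => by
      rw [if_pos rfl, sum_eq_single (W (Fin.last j)) (fun b _ hb => by simp [Ne.symm hb])
        (fun h => absurd (mem_univ _) h), if_pos rfl]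
    rw [sum_congr rfl fun W _ => this W, sum_comm]
    simp only [← sum_mul, ih]
    rcases lt_trichotomy (dm U) (j + 1) with hd | hd | hd
    · rw [if_pos hd.le, sum_eq_single U]
      · rw [if_pos (by omega), stepW, if_pos rfl, pow_succ]
        ring
      · intro V _ hV
        rw [stepW, if_neg hV, if_neg (fun h : V ≤ U ∧ dm U = j + 1 => by omega), mul_zero]
      · exact fun h => absurd (mem_univ U) h
    · have hU : U ≠ ⊥ := fun h => by rw [h, h0] at hd; omega
      rw [if_pos hd.le]
      have heq : ∀ V : L, (if dm V ≤ j then (-1 : ℂ) ^ j * w V else 0) * stepW dm V U j =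
          if V ≤ U then (if V = U then 0 else (-1 : ℂ) ^ j * w V) else 0 := by
        intro V
        by_cases hV : V = U
        · subst hV
          rw [if_neg (by omega), zero_mul, if_pos le_rfl, if_pos rfl]
        rw [stepW, if_neg hV, if_neg hV]
        by_cases hle : V ≤ U
        · have := hs (lt_of_le_of_ne hle hV)
          rw [if_pos (by omega), if_pos ⟨hle, hd⟩, mul_one, if_pos hle]
        · rw [if_neg (fun h : V ≤ U ∧ dm U = j + 1 => hle h.1), mul_zero, if_neg hle]
      rw [sum_congr rfl fun V _ => heq V, ← sum_filter]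
      have h1 := hw U hU
      rw [← add_sum_erase _ _ (show U ∈ univ.filter (fun V => V ≤ U) by simp)] at h1
      rw [← add_sum_erase _ _ (show U ∈ univ.filter (fun V => V ≤ U) by simp), if_pos rfl, zero_add,
        sum_congr rfl fun V hV => if_neg (ne_of_mem_erase hV), ← mul_sum,
        eq_neg_of_add_eq_zero_right h1, pow_succ]
      ring
    · rw [if_neg (by omega)]
      refine sum_eq_zero fun V _ => ?_
      by_cases hV : V = U
      · subst hV
        rw [if_neg (by omega), zero_mul]
      · rw [stepW, if_neg hV, if_neg (fun h : V ≤ U ∧ dm U = j + 1 => by omega), mul_zero]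

/-- The sequences counted by a permutation. -/
def Cnt (μ : Fin n → ℕ) (W : Fin (n + 1) → L) : Prop :=
  W 0 = ⊥ ∧ ∀ i : Fin n, W i.castSucc ≤ W i.succ ∧ dm (W i.succ) = dm (W i.castSucc) + μ i

theorem invariant (h0 : dm ⊥ = 0) {κ : Equiv.Perm (Fin n)} (hκ : UpOne κ) {W : Fin (n + 1) → L}
    (hW : Cnt dm (stp κ) W) (j : Fin (n + 1)) :
    dm (W j) ≤ j.val ∧ (∀ i : Fin n, i.val < j.val → (κ i).val ≠ dm (W j)) ∧
      ∀ v : ℕ, v ≤ j.val → v ≠ dm (W j) → ∃ i : Fin n, i.val < j.val ∧ (κ i).val = v := by
  induction j using Fin.induction with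
  | zero =>
    rw [hW.1, h0]
    exact ⟨le_rfl, fun i hi => absurd hi (by simp), fun v hv hv' => absurd (by simpa using hv) hv'⟩
  | succ j ih =>
    obtain ⟨h1, h2, h3⟩ := ih
    simp only [Fin.val_castSucc] at h1 h2 h3
    have hb := hκ j
    have hstep := (hW.2 j).2
    rw [stp] at hstep
    simp only [Fin.val_succ]
    have hdisj : (κ j).val = dm (W j.castSucc) ∨ (κ j).val = j.val + 1 := by
      by_contra hne
      push Not at hne
      obtain ⟨i, hi, he⟩ := h3 (κ j).val (by omega) hne.1
      exact absurd (congrArg Fin.val (κ.injective (Fin.ext he))) (by omega)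
    rcases hdisj with he | he
    · have hd : dm (W j.succ) = j.val + 1 := by omega
      rw [hd]
      refine ⟨le_rfl, fun i hi hc => ?_, fun v hv hv' => ?_⟩
      · have := hκ i
        rcases Nat.lt_or_ge i.val j.val with hlt | hge
        · omega
        · have : i = j := Fin.ext (by omega)
          subst this
          omega
      · by_cases hvd : v = dm (W j.castSucc)
        · exact ⟨j, by omega, by omega⟩
        · obtain ⟨i, hi, hv2⟩ := h3 v (by omega) hvd
          exact ⟨i, by omega, hv2⟩
    · have hd : dm (W j.succ) = dm (W j.castSucc) := by omega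
      rw [hd]
      refine ⟨by omega, fun i hi hc => ?_, fun v hv hv' => ?_⟩
      · rcases Nat.lt_or_ge i.val j.val with hlt | hge
        · exact h2 i hlt hc
        · have : i = j := Fin.ext (by omega)
          subst this
          omega
      · by_cases hvj : v = j.val + 1
        · exact ⟨j, by omega, by omega⟩
        · obtain ⟨i, hi, hv2⟩ := h3 v (by omega) hv'
          exact ⟨i, by omega, hv2⟩

theorem step_cases (h0 : dm ⊥ = 0) {κ : Equiv.Perm (Fin n)} (hκ : UpOne κ) {W : Fin (n + 1) → L}
    (hW : Cnt dm (stp κ) W) (i : Fin n) :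
    ((κ i).val = i.val + 1 ∧ dm (W i.succ) = dm (W i.castSucc)) ∨
      ((κ i).val ≠ i.val + 1 ∧ dm (W i.succ) = i.val + 1 ∧ dm (W i.castSucc) ≤ i.val) := by
  obtain ⟨h1, h2, h3⟩ := invariant dm h0 hκ hW i.castSucc
  simp only [Fin.val_castSucc] at h1 h2 h3
  have hstep := (hW.2 i).2
  rw [stp] at hstep
  have hb := hκ i
  by_cases he : (κ i).val = i.val + 1
  · exact Or.inl ⟨he, by omega⟩
  refine Or.inr ⟨he, ?_, h1⟩
  have : (κ i).val = dm (W i.castSucc) := by
    by_contra hne
    obtain ⟨i', hi', he'⟩ := h3 (κ i).val (by omega) hne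
    exact absurd (congrArg Fin.val (κ.injective (Fin.ext he'))) (by omega)
  omega

theorem eq_of_dim (hs : StrictMono dm) {a b : L} (h : a ≤ b) (hd : dm b = dm a) : a = b := by
  by_contra hne
  have := hs (lt_of_le_of_ne h hne)
  omega

theorem chainW_of_cnt (hs : StrictMono dm) (h0 : dm ⊥ = 0) {κ : Equiv.Perm (Fin n)} (hκ : UpOne κ)
    {W : Fin (n + 1) → L} (hW : Cnt dm (stp κ) W) : chainW dm W = ((Equiv.Perm.sign κ : ℤ) : ℂ) := by
  rw [chainW, if_pos hW.1, one_mul, sign_upOne hκ]
  refine prod_congr rfl fun i _ => ?_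
  rcases step_cases dm h0 hκ hW i with ⟨he, hd⟩ | ⟨he, hd, hle⟩
  · rw [stepW, if_pos (eq_of_dim dm hs (hW.2 i).1 hd), if_pos he]
  · rw [stepW, if_neg (fun h => by rw [h, hd] at hle; omega), if_pos ⟨(hW.2 i).1, hd⟩, if_neg he]

theorem exists_perm (h0 : dm ⊥ = 0) {W : Fin (n + 1) → L} (hW : chainW dm W ≠ 0)
    (htop : dm (W (Fin.last n)) = n) : ∃ κ : Equiv.Perm (Fin n), UpOne κ ∧ Cnt dm (stp κ) W := by
  rw [chainW, mul_ne_zero_iff, ite_ne_right_iff] at hW
  obtain ⟨⟨hW0, -⟩, hne⟩ := hW
  rw [prod_ne_zero_iff] at hne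
  have hstep : ∀ i : Fin n, W i.castSucc = W i.succ ∨ (W i.castSucc ≤ W i.succ ∧ dm (W i.succ) = i.val + 1) := by
    intro i
    have := hne i (mem_univ i)
    rw [stepW] at this
    by_cases h1 : W i.castSucc = W i.succ
    · exact Or.inl h1
    rw [if_neg h1] at this
    exact Or.inr (by by_contra h2; exact this (if_neg h2))
  have hle : ∀ j : Fin (n + 1), dm (W j) ≤ j.val := by
    intro j
    induction j using Fin.induction with
    | zero => rw [hW0, h0]; simp
    | succ j ih =>
      simp only [Fin.val_succ]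
      simp only [Fin.val_castSucc] at ih
      rcases hstep j with h | ⟨-, h⟩
      · rw [← h]; omega
      · omega
  have hmem : ∀ j : Fin (n + 1), ∀ k : Fin (n + 1), j ≤ k →
      dm (W j) = dm (W k) ∨ j.val < dm (W k) := by
    intro j k
    induction k using Fin.induction with
    | zero => intro h; exact Or.inl (by rw [Fin.le_zero_iff.1 h])
    | succ k ih =>
      intro h
      rcases eq_or_lt_of_le h with rfl | hlt
      · exact Or.inl rfl
      have hjk : j ≤ k.castSucc := Fin.le_castSucc_iff.2 hlt
      have := Fin.le_def.1 hjk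
      simp only [Fin.val_castSucc] at this
      rcases hstep k with h' | ⟨-, h'⟩
      · rw [← h']; exact ih hjk
      · exact Or.inr (by omega)
  have hlast : ∀ i : Fin n, dm (W i.castSucc) = dm (W i.succ) → i.val + 1 < n := by
    intro i hi
    by_contra hn
    have h1 : i.succ = Fin.last n := Fin.ext (by simp only [Fin.val_succ, Fin.val_last]; omega)
    have h2 := hle i.castSucc
    rw [hi, h1, htop] at h2
    simp only [Fin.val_castSucc] at h2
    omega
  let f : Fin n → Fin n := fun i =>
    if h : dm (W i.castSucc) = dm (W i.succ) then ⟨i.val + 1, hlast i h⟩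
    else ⟨dm (W i.castSucc), lt_of_le_of_lt (by simpa using hle i.castSucc) i.isLt⟩
  have hjump : ∀ i : Fin n, dm (W i.castSucc) ≠ dm (W i.succ) → dm (W i.succ) = i.val + 1 := fun i hi => by
    rcases hstep i with h | ⟨-, h⟩
    · exact absurd (by rw [h]) hi
    · exact h
  have hinj : Function.Injective f := by
    have aux : ∀ i i' : Fin n, i < i' → f i ≠ f i' := by
      intro i i' hlt he
      have hsucc : i.succ ≤ i'.castSucc := Fin.le_castSucc_iff.2 (Fin.succ_lt_succ_iff.2 hlt)
      have hv := congrArg Fin.val he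
      have hv1 := Fin.lt_def.1 hlt
      have hA : dm (W i.castSucc) ≤ i.val := by simpa using hle i.castSucc
      have hB : dm (W i'.castSucc) ≤ i'.val := by simpa using hle i'.castSucc
      have hC := hmem i.succ i'.castSucc hsucc
      have hD := hmem i.castSucc i'.castSucc (le_trans (Fin.castSucc_le_succ i) hsucc)
      simp only [Fin.val_succ] at hC
      simp only [Fin.val_castSucc] at hD
      by_cases h1 : dm (W i.castSucc) = dm (W i.succ) <;> by_cases h2 : dm (W i'.castSucc) = dm (W i'.succ)
      all_goals simp only [f, h1, h2, dite_true, dite_false] at hv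
      · omega
      · omega
      · omega
      · have := hjump i h1
        omega
    intro i i' he
    rcases lt_trichotomy i i' with h | h | h
    · exact absurd he (aux i i' h)
    · exact h
    · exact absurd he.symm (aux i' i h)
  let κ : Equiv.Perm (Fin n) := Equiv.ofBijective f (Finite.injective_iff_bijective.1 hinj)
  refine ⟨κ, fun i => ?_, hW0, fun i => ⟨?_, ?_⟩⟩
  · show (f i).val ≤ 1 + i.val
    have : dm (W i.castSucc) ≤ i.val := by simpa using hle i.castSucc
    by_cases h1 : dm (W i.castSucc) = dm (W i.succ)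
    · simp only [f, dif_pos h1]; omega
    · simp only [f, dif_neg h1]; omega
  · rcases hstep i with h | ⟨h, -⟩
    · exact h.le
    · exact h
  · show dm (W i.succ) = dm (W i.castSucc) + (1 + i.val - (f i).val)
    have : dm (W i.castSucc) ≤ i.val := by simpa using hle i.castSucc
    by_cases h1 : dm (W i.castSucc) = dm (W i.succ)
    · simp only [f, dif_pos h1]; omega
    · have := hjump i h1
      simp only [f, dif_neg h1]; omega

theorem perm_unique {κ κ' : Equiv.Perm (Fin n)} (hκ : UpOne κ) (hκ' : UpOne κ') {W : Fin (n + 1) → L}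
    (h : Cnt dm (stp κ) W) (h' : Cnt dm (stp κ') W) : κ = κ' := by
  refine Equiv.ext fun i => Fin.ext ?_
  have h1 := (h.2 i).2
  rw [(h'.2 i).2, stp, stp] at h1
  have := hκ i
  have := hκ' i
  omega

open scoped Classical in
/-- The alternating sum over the permutations is the Moebius function. -/
theorem sum_perm_eq (hs : StrictMono dm) (h0 : dm ⊥ = 0) (w : L → ℂ) (hw0 : w ⊥ = 1)
    (hw : ∀ U, U ≠ ⊥ → ∑ V ∈ univ.filter (fun V => V ≤ U), w V = 0) (T : L) (hT : dm T = n) :
    ∑ κ : Equiv.Perm (Fin n), (if UpOne κ then ((Equiv.Perm.sign κ : ℤ) : ℂ) *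
        (Nat.card {W : Fin (n + 1) → L // Cnt dm (stp κ) W ∧ W (Fin.last n) = T} : ℂ) else 0) =
      (-1 : ℂ) ^ n * w T := by
  rw [← show (∑ W : Fin (n + 1) → L, if W (Fin.last n) = T then chainW dm W else 0) = (-1 : ℂ) ^ n * w T by
    rw [sum_chainW dm hs h0 w hw0 hw n T, if_pos hT.le]]
  have hκ : ∀ κ : Equiv.Perm (Fin n), (if UpOne κ then ((Equiv.Perm.sign κ : ℤ) : ℂ) *
      (Nat.card {W : Fin (n + 1) → L // Cnt dm (stp κ) W ∧ W (Fin.last n) = T} : ℂ) else 0) =
      ∑ W : Fin (n + 1) → L, if W (Fin.last n) = T then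
        (if UpOne κ ∧ Cnt dm (stp κ) W then chainW dm W else 0) else 0 := by
    intro κ
    split_ifs with h
    · rw [Nat.card_eq_fintype_card, Fintype.card_subtype, ← sum_boole, mul_sum]
      refine sum_congr rfl fun W _ => ?_
      by_cases h1 : W (Fin.last n) = T <;> by_cases h2 : Cnt dm (stp κ) W <;> simp [h, h1, h2]
      exact (chainW_of_cnt dm hs h0 h h2).symm
    · exact (sum_eq_zero fun W _ => by simp [h]).symm
  rw [sum_congr rfl fun κ _ => hκ κ, sum_comm]
  refine sum_congr rfl fun W _ => ?_
  by_cases h1 : W (Fin.last n) = T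
  swap
  · simp [h1]
  simp only [h1, if_true]
  by_cases hz : chainW dm W = 0
  · simp [hz]
  obtain ⟨κ, hκ1, hκ2⟩ := exists_perm dm h0 hz (by rw [h1, hT])
  rw [sum_eq_single κ (fun b _ hb => if_neg fun hh => hb (perm_unique dm hh.1 hκ1 hh.2 hκ2))
    (fun hh => absurd (mem_univ κ) hh), if_pos ⟨hκ1, hκ2⟩]

end

end Cfsg.Agent.StGL
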