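/-
The cosets of a standard parabolic subgroup of `GL_n` as flags.
-/
import Cfsg.Agent.Lib.Unipotent.Comp

set_option autoImplicit false
set_option linter.style.haveILetI false
set_option linter.unusedSectionVars false

namespace Cfsg.Agent.StGL

open Finset Matrix Cfsg.Agent.Unipotent
open scoped MatrixGroups

variable {n : ℕ} {F : Type*} [Field F]

/-- the standard subspaces -/
def stdSub (F : Type*) [Field F] (n s : ℕ) : Submodule F (Fin n → F) where
  carrier := {x | ∀ k : Fin n, s ≤ k.val → x k = 0}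
  add_mem' := fun {a b} ha hb k hk => by simp [ha k hk, hb k hk]
  zero_mem' := fun _ _ => rfl
  smul_mem' := fun c x hx k hk => by simp [hx k hk]

theorem finrank_stdSub {s : ℕ} (hs : s ≤ n) : Module.finrank F (stdSub F n s) = s := by
  let e : stdSub F n s ≃ₗ[F] (Fin s → F) :=
    { toFun := fun x k => x.1 (Fin.castLE hs k)
      map_add' := fun _ _ => rfl
      map_smul' := fun _ _ => rfl
      invFun := fun y => ⟨fun k => if h : k.val < s then y ⟨k.val, h⟩ else 0, fun k hk => dif_neg (not_lt.2 hk)⟩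
      left_inv := fun x => Subtype.ext (funext fun k => by
        by_cases h : k.val < s
        · simp [h]
        · simp [h, x.2 k (not_lt.1 h)])
      right_inv := fun y => funext fun k => by simp }
  rw [e.finrank_eq, Module.finrank_fin_fun]

theorem label_lt_iff {μ : Fin n → ℕ} (hμ : ∑ i, μ i = n) (k : Fin n) (j : ℕ) :
    Cfsg.compLabel μ k < j ↔ k.val < partSum μ j := by
  obtain ⟨j₀, h1, h2⟩ := exists_bounds hμ k
  rw [compLabel_of_bounds μ k j₀ h1 h2]
  constructor
  · exact fun h => lt_of_lt_of_le h2 (partSum_mono μ h)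
  · intro h
    by_contra hle
    exact absurd (lt_of_lt_of_le h (partSum_mono μ (not_lt.1 hle))) (by omega)

/-- a flag of type `μ` -/
def IsFlag (μ : Fin n → ℕ) (W : Fin (n + 1) → Submodule F (Fin n → F)) : Prop :=
  (∀ i : Fin n, W i.castSucc ≤ W i.succ) ∧ ∀ j : Fin (n + 1), Module.finrank F (W j) = partSum μ j.val

/-- the standard flag -/
def stdFlag (F : Type*) [Field F] (μ : Fin n → ℕ) (j : Fin (n + 1)) : Submodule F (Fin n → F) :=
  stdSub F n (partSum μ j.val)

theorem partSum_le {μ : Fin n → ℕ} (hμ : ∑ i, μ i = n) (j : Fin (n + 1)) : partSum μ j.val ≤ n :=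
  le_of_le_of_eq (partSum_mono μ (Nat.lt_succ_iff.1 j.isLt)) (by rw [partSum_last, hμ])

theorem isFlag_std {μ : Fin n → ℕ} (hμ : ∑ i, μ i = n) : IsFlag μ (stdFlag F μ) :=
  ⟨fun i x hx k hk => hx k (le_trans (partSum_mono μ (by simp)) hk),
    fun j => finrank_stdSub (partSum_le hμ j)⟩

/-- the action on subspaces -/
def mv (g : GL (Fin n) F) (U : Submodule F (Fin n → F)) : Submodule F (Fin n → F) :=
  U.map (Matrix.mulVecLin (g : Matrix (Fin n) (Fin n) F))

theorem mv_mul (g h : GL (Fin n) F) (U : Submodule F (Fin n → F)) : mv (g * h) U = mv g (mv h U) := by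
  rw [mv, mv, mv, Units.val_mul, Matrix.mulVecLin_mul, Submodule.map_comp]

theorem mv_one (U : Submodule F (Fin n → F)) : mv (1 : GL (Fin n) F) U = U := by
  rw [mv, Units.val_one, Matrix.mulVecLin_one, Submodule.map_id]

theorem mv_inj {g : GL (Fin n) F} {U U' : Submodule F (Fin n → F)} (h : mv g U = mv g U') : U = U' := by
  have := congrArg (mv g⁻¹) h
  rwa [← mv_mul, ← mv_mul, inv_mul_cancel, mv_one, mv_one] at this

theorem finrank_mv (g : GL (Fin n) F) (U : Submodule F (Fin n → F)) :
    Module.finrank F (mv g U) = Module.finrank F U :=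
  (Submodule.equivMapOfInjective _ (Matrix.mulVec_injective_iff_isUnit.2 g.isUnit) U).finrank_eq.symm

theorem isFlag_mv {μ : Fin n → ℕ} {W : Fin (n + 1) → Submodule F (Fin n → F)} (hW : IsFlag μ W)
    (g : GL (Fin n) F) : IsFlag μ (fun j => mv g (W j)) :=
  ⟨fun i => Submodule.map_mono (hW.1 i), fun j => (finrank_mv g _).trans (hW.2 j)⟩

theorem stab_std {μ : Fin n → ℕ} (hμ : ∑ i, μ i = n) (g : GL (Fin n) F) :
    (∀ j, mv g (stdFlag F μ j) = stdFlag F μ j) ↔ g ∈ Cfsg.parabolicGL n F μ := by
  constructor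
  · intro h a b hab
    set j : Fin (n + 1) := ⟨Cfsg.compLabel μ b + 1, Nat.succ_lt_succ (compLabel_lt hμ b)⟩
    have hb : Pi.single b (1 : F) ∈ stdFlag F μ j := fun k hk => by
      refine Pi.single_eq_of_ne ?_ _
      rintro rfl
      exact absurd ((label_lt_iff hμ k _).1 (Nat.lt_succ_self _)) (not_lt.2 hk)
    have := (h j).le ⟨_, hb, rfl⟩ a (not_lt.1 fun hlt => by
      have h1 := (label_lt_iff hμ a j.val).2 hlt
      simp only [j] at h1
      omega)
    simpa [Matrix.mulVecLin_apply, Matrix.mulVec_single_one] using this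
  · intro hg j
    refine Submodule.eq_of_le_of_finrank_eq ?_ (finrank_mv g _)
    rintro _ ⟨x, hx, rfl⟩ k hk
    simp only [Matrix.mulVecLin_apply, Matrix.mulVec, dotProduct]
    refine sum_eq_zero fun b _ => ?_
    by_cases hb : b.val < partSum μ j.val
    · have h1 := (label_lt_iff hμ b j.val).2 hb
      have h2 : ¬ Cfsg.compLabel μ k < j.val := fun h => absurd ((label_lt_iff hμ k j.val).1 h) (not_lt.2 hk)
      rw [hg (show Cfsg.compLabel μ b < Cfsg.compLabel μ k by omega), zero_mul]
    · rw [hx b (not_lt.1 hb), mul_zero]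

theorem exists_adapted {μ : Fin n → ℕ} {W : Fin (n + 1) → Submodule F (Fin n → F)} (hW : IsFlag μ W)
    (j : Fin (n + 1)) : ∃ c : Fin (partSum μ j.val) → (Fin n → F), LinearIndependent F c ∧ (∀ k, c k ∈ W j) ∧
      ∀ m : Fin (n + 1), m ≤ j → ∀ k, k.val < partSum μ m.val → c k ∈ W m := by
  induction j using Fin.induction with
  | zero =>
    have hem : IsEmpty (Fin (partSum μ (0 : Fin (n + 1)).val)) := by
      rw [Fin.val_zero, partSum_zero]; exact Fin.isEmpty
    exact ⟨fun k => hem.elim k, linearIndependent_empty_type, fun k => hem.elim k, fun m _ k _ => hem.elim k⟩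
  | succ j ih =>
    obtain ⟨c, hc, hcW, hcm⟩ := ih
    set U := W j.castSucc
    set U' := W j.succ
    obtain ⟨C, hC⟩ := Submodule.exists_isCompl U
    have hd : Disjoint U (C ⊓ U') := hC.disjoint.mono_right inf_le_left
    have hs : U ⊔ C ⊓ U' = U' := by rw [← sup_inf_assoc_of_le C (hW.1 j), hC.sup_eq_top, top_inf_eq]
    have hrk : Module.finrank F ↥(C ⊓ U') = μ j := by
      have h := Submodule.finrank_sup_add_finrank_inf_eq U (C ⊓ U')
      rw [hs, hd.eq_bot, finrank_bot, hW.2 j.succ, hW.2 j.castSucc, Fin.val_succ, Fin.val_castSucc,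
        partSum_succ] at h
      omega
    let b := Module.finBasisOfFinrankEq F ↥(C ⊓ U') hrk
    let b' : Fin (μ j) → (Fin n → F) := (C ⊓ U').subtype ∘ b
    have hb' : LinearIndependent F b' := b.linearIndependent.map' (C ⊓ U').subtype (C ⊓ U').ker_subtype
    have hall : LinearIndependent F (Sum.elim c b') :=
      hc.sum_type hb' (hd.mono (Submodule.span_le.2 (by rintro _ ⟨k, rfl⟩; exact hcW k))
        (Submodule.span_le.2 (by rintro _ ⟨k, rfl⟩; exact (b k).2)))
    have he : partSum μ j.castSucc.val + μ j = partSum μ j.succ.val := by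
      rw [Fin.val_succ, Fin.val_castSucc, partSum_succ]
    let e : Fin (partSum μ j.succ.val) ≃ Fin (partSum μ j.castSucc.val) ⊕ Fin (μ j) :=
      (finCongr he.symm).trans finSumFinEquiv.symm
    refine ⟨Sum.elim c b' ∘ e, hall.comp _ e.injective, fun k => ?_, fun m hm k hk => ?_⟩
    · show Sum.elim c b' (e k) ∈ U'
      rcases h : e k with a | a
      · exact hW.1 j (hcW a)
      · exact (b a).2.2
    · show Sum.elim c b' (e k) ∈ W m
      rcases h : e k with a | a
      · have hka : k.val = a.val := by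
          have := congrArg e.symm h
          rw [Equiv.symm_apply_apply] at this
          rw [this]
          simp [e]
        rcases eq_or_lt_of_le hm with rfl | hlt
        · exact hW.1 j (hcW a)
        · exact hcm m (Fin.le_castSucc_iff.2 hlt) a (hka ▸ hk)
      · have hka : k.val = partSum μ j.castSucc.val + a.val := by
          have := congrArg e.symm h
          rw [Equiv.symm_apply_apply] at this
          rw [this]
          simp [e]
        rcases eq_or_lt_of_le hm with rfl | hlt
        · exact (b a).2.2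
        · have hml : m.val ≤ j.castSucc.val := Fin.le_def.1 (Fin.le_castSucc_iff.2 hlt)
          exact absurd (partSum_mono μ hml) (by omega)

theorem exists_mv_std {μ : Fin n → ℕ} (hμ : ∑ i, μ i = n) {W : Fin (n + 1) → Submodule F (Fin n → F)}
    (hW : IsFlag μ W) : ∃ g : GL (Fin n) F, ∀ j, mv g (stdFlag F μ j) = W j := by
  obtain ⟨c, hc, -, hcm⟩ := exists_adapted hW (Fin.last n)
  have hn : partSum μ (Fin.last n).val = n := by rw [Fin.val_last, partSum_last, hμ]
  let d : Fin n → Fin n → F := fun k => c (Fin.cast hn.symm k)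
  have hd : LinearIndependent F d := hc.comp _ (Fin.cast_injective _)
  let A : Matrix (Fin n) (Fin n) F := fun i k => d k i
  have hA : IsUnit A := Matrix.linearIndependent_cols_iff_isUnit.1 hd
  refine ⟨hA.unit, fun j => Submodule.eq_of_le_of_finrank_eq ?_
    ((finrank_mv _ _).trans ((isFlag_std hμ).2 j |>.trans (hW.2 j).symm))⟩
  rintro _ ⟨x, hx, rfl⟩
  rw [IsUnit.unit_spec, Matrix.mulVecLin_apply,
    show A *ᵥ x = ∑ k, x k • d k by funext i; simp [A, Matrix.mulVec, dotProduct, mul_comm]]
  refine Submodule.sum_mem _ fun k _ => ?_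
  by_cases hk : k.val < partSum μ j.val
  · exact Submodule.smul_mem _ _ (hcm j (Fin.le_last j) _ hk)
  · rw [hx k (not_lt.1 hk), zero_smul]
    exact Submodule.zero_mem _

/-- Fixed cosets are fixed flags. -/
theorem card_fixedBy {μ : Fin n → ℕ} (hμ : ∑ i, μ i = n) (x : GL (Fin n) F) :
    Nat.card (MulAction.fixedBy (GL (Fin n) F ⧸ Cfsg.parabolicGL n F μ) x) =
      Nat.card {W : Fin (n + 1) → Submodule F (Fin n → F) // IsFlag μ W ∧ ∀ j, mv x (W j) = W j} := by
  let φ : GL (Fin n) F ⧸ Cfsg.parabolicGL n F μ → (Fin (n + 1) → Submodule F (Fin n → F)) :=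
    Quotient.lift (fun g j => mv g (stdFlag F μ j)) fun a b h => by
      funext j
      have h' := (stab_std hμ _).2 (QuotientGroup.leftRel_apply.1 h) j
      rw [mv_mul] at h'
      have h2 := congrArg (mv a) h'
      rw [← mv_mul, mul_inv_cancel, mv_one] at h2
      exact h2.symm
  have hφ : ∀ g : GL (Fin n) F, φ (g : GL (Fin n) F ⧸ Cfsg.parabolicGL n F μ) = fun j => mv g (stdFlag F μ j) :=
    fun _ => rfl
  have hinj : Function.Injective φ := fun p q => by
    induction p using QuotientGroup.induction_on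
    rename_i a
    induction q using QuotientGroup.induction_on
    rename_i b
    intro h
    rw [hφ, hφ] at h
    rw [QuotientGroup.eq]
    refine (stab_std hμ _).1 fun j => ?_
    rw [mv_mul, ← congrFun h j, ← mv_mul, inv_mul_cancel, mv_one]
  have hsmul : ∀ (q : GL (Fin n) F ⧸ Cfsg.parabolicGL n F μ), φ (x • q) = fun j => mv x (φ q j) := by
    intro q
    induction q using QuotientGroup.induction_on
    rename_i g
    rw [MulAction.Quotient.smul_coe, hφ, hφ]
    funext j
    exact mv_mul x g _
  refine Nat.card_eq_of_bijective (fun q => ⟨φ q.1, ?_, ?_⟩) ⟨?_, ?_⟩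
  · obtain ⟨q, hq⟩ := q
    induction q using QuotientGroup.induction_on
    exact isFlag_mv (isFlag_std hμ) _
  · intro j
    have := hsmul q.1
    rw [q.2] at this
    exact (congrFun this j).symm
  · intro p q h
    exact Subtype.ext (hinj (congrArg Subtype.val h))
  · rintro ⟨W, hW, hfix⟩
    obtain ⟨g, hg⟩ := exists_mv_std hμ hW
    refine ⟨⟨(g : GL (Fin n) F ⧸ Cfsg.parabolicGL n F μ), hinj ?_⟩, Subtype.ext (funext hg)⟩
    rw [hsmul, hφ]
    funext j
    simp only [hg, hfix]

end Cfsg.Agent.StGL
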