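/-
The Moebius function of the lattice of submodules of a finite semisimple `F[X]`-module,
read off from the factors of the characteristic polynomial of `X`.
-/
import Mathlib

set_option autoImplicit false
set_option linter.style.haveILetI false
set_option linter.unusedSectionVars false

namespace Cfsg.Agent.StGL

open Polynomial UniqueFactorizationMonoid

variable {F : Type*} [Field F] [DecidableEq F]

section act

variable (N : Type*) [AddCommGroup N] [Module F[X] N] [Module F N] [IsScalarTower F F[X] N]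

/-- multiplication by the variable -/
noncomputable def act : N →ₗ[F] N where
  toFun n := (X : F[X]) • n
  map_add' := smul_add _
  map_smul' c n := by
    show (X : F[X]) • c • n = c • (X : F[X]) • n
    rw [← algebraMap_smul F[X] c n, ← algebraMap_smul F[X] c ((X : F[X]) • n), smul_smul, smul_smul,
      mul_comm]

theorem aeval_act (g : F[X]) (n : N) : aeval (act (F := F) N) g n = g • n := by
  induction g using Polynomial.induction_on' with
  | add a b ha hb => rw [map_add, LinearMap.add_apply, ha, hb, add_smul]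
  | monomial k c =>
    have hp : ∀ (k : ℕ) (n : N), ((act (F := F) N) ^ k) n = (X : F[X]) ^ k • n := by
      intro k
      induction k with
      | zero => intro n; simp
      | succ k ih =>
        intro n
        rw [pow_succ', Module.End.mul_apply, ih, pow_succ', mul_smul]
        rfl
    rw [aeval_monomial, Module.End.mul_apply, Module.algebraMap_end_apply, hp,
      ← C_mul_X_pow_eq_monomial, mul_smul, ← Polynomial.algebraMap_eq, algebraMap_smul]

variable [Finite N]

/-- the characteristic polynomial of the variable -/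
noncomputable def chi : F[X] :=
  haveI : Module.Finite F N := Module.Finite.of_finite
  (act N).charpoly

/-- its monic irreducible factors -/
noncomputable def cs : Multiset F[X] := normalizedFactors (chi (F := F) N)

theorem chi_monic : (chi (F := F) N).Monic := LinearMap.charpoly_monic _

theorem chi_natDegree : (chi (F := F) N).natDegree = Module.finrank F N := by
  haveI : Module.Finite F N := Module.Finite.of_finite
  exact LinearMap.charpoly_natDegree _

end act

section

variable {N N' : Type*} [AddCommGroup N] [Module F[X] N] [Module F N] [IsScalarTower F F[X] N] [Finite N]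
  [AddCommGroup N'] [Module F[X] N'] [Module F N'] [IsScalarTower F F[X] N'] [Finite N']

theorem chi_congr (e : N ≃ₗ[F[X]] N') : chi (F := F) N = chi N' := by
  haveI : Module.Finite F N := Module.Finite.of_finite
  haveI : Module.Finite F N' := Module.Finite.of_finite
  have h : (e.restrictScalars F).conj (act N) = act N' := by
    ext n
    simp [LinearEquiv.conj_apply, act]
  show (act N).charpoly = (act N').charpoly
  rw [← h, LinearEquiv.charpoly_conj]

theorem chi_prod : chi (F := F) (N × N') = chi N * chi N' := by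
  haveI : Module.Finite F N := Module.Finite.of_finite
  haveI : Module.Finite F N' := Module.Finite.of_finite
  show (act (N × N')).charpoly = (act N).charpoly * (act N').charpoly
  rw [← LinearMap.charpoly_prodMap]
  rfl

theorem cs_congr (e : N ≃ₗ[F[X]] N') : cs (F := F) N = cs N' := by rw [cs, cs, chi_congr e]

theorem cs_prod : cs (F := F) (N × N') = cs N + cs N' := by
  rw [cs, chi_prod, normalizedFactors_mul (chi_monic N).ne_zero (chi_monic N').ne_zero]
  rfl

theorem cs_subsingleton [Subsingleton N] : cs (F := F) N = 0 := by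
  rw [cs, (chi_monic N).natDegree_eq_zero.1 (by rw [chi_natDegree]; exact Module.finrank_zero_of_subsingleton),
    normalizedFactors_one]

theorem exists_simple [IsSimpleModule F[X] N] :
    ∃ f : F[X], cs (F := F) N = {f} ∧ Nat.card N = Nat.card F ^ f.natDegree ∧
      Nonempty (N ≃ₗ[F[X]] F[X] ⧸ Ideal.span {f}) := by
  classical
  obtain ⟨I, hI, ⟨e⟩⟩ := isSimpleModule_iff_quot_maximal.1 (inferInstance : IsSimpleModule F[X] N)
  obtain ⟨f₀, hf₀⟩ := Submodule.IsPrincipal.principal (S := I)
  have hf0 : f₀ ≠ 0 := by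
    rintro rfl
    exact Ring.ne_bot_of_isMaximal_of_not_isField hI (Polynomial.not_isField F) (by simpa using hf₀)
  set f := normalize f₀
  have hm : f.Monic := Polynomial.monic_normalize hf0
  have hIf : I = Ideal.span {f} := by
    rw [hf₀]
    exact Ideal.span_singleton_eq_span_singleton.2 (associated_normalize f₀)
  subst hIf
  have hirr : Irreducible f := ((Ideal.span_singleton_prime hm.ne_zero).1 hI.isPrime).irreducible
  haveI : Module.Finite F N := Module.Finite.of_finite
  haveI : Nontrivial N := IsSimpleModule.nontrivial F[X] N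
  haveI : Nontrivial (Module.End F N) := by
    obtain ⟨a, ha⟩ := exists_ne (0 : N)
    exact ⟨⟨1, 0, fun h => ha (by simpa using LinearMap.congr_fun h a)⟩⟩
  have haev : aeval (act (F := F) N) f = 0 := by
    ext n
    rw [aeval_act, LinearMap.zero_apply]
    apply e.injective
    rw [map_smul, map_zero]
    obtain ⟨r, hr⟩ := Submodule.Quotient.mk_surjective _ (e n)
    rw [← hr, ← Submodule.Quotient.mk_smul, Submodule.Quotient.mk_eq_zero]
    exact Ideal.mul_mem_right r _ (Ideal.mem_span_singleton_self f)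
  have hmin := minpoly.eq_of_irreducible_of_monic hirr haev hm
  have hrk : Module.finrank F N = f.natDegree :=
    (e.restrictScalars F).finrank_eq.trans finrank_quotient_span_eq_natDegree
  have hd : f ∣ chi (F := F) N := hmin ▸ LinearMap.minpoly_dvd_charpoly _
  have hchi : chi (F := F) N = f :=
    Polynomial.eq_of_monic_of_dvd_of_natDegree_le hm (chi_monic N) hd (by rw [chi_natDegree, hrk])
  refine ⟨f, ?_, ?_, ⟨e⟩⟩
  · rw [cs, hchi, normalizedFactors_irreducible hirr, hm.normalize_eq_self]
  · rw [Module.natCard_eq_pow_finrank (K := F), hrk]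

theorem card_end_quotient {R : Type*} [CommRing R] (I : Ideal R) :
    Nat.card ((R ⧸ I) →ₗ[R] R ⧸ I) = Nat.card (R ⧸ I) := by
  refine Nat.card_congr
    { toFun := fun φ => φ 1
      invFun := fun a => LinearMap.mulRight R a
      left_inv := fun φ => ?_
      right_inv := fun a => ?_ }
  · ext
    simp
  · simp

theorem card_hom_simple [IsSimpleModule F[X] N] [IsSimpleModule F[X] N'] {f : F[X]}
    (hf : cs (F := F) N' = {f}) :
    Nat.card (N →ₗ[F[X]] N') = Nat.card F ^ (f.natDegree * (cs (F := F) N).count f) := by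
  classical
  obtain ⟨g, hg, hgc, ⟨e⟩⟩ := exists_simple (F := F) (N := N)
  obtain ⟨f', hf', hfc, ⟨e'⟩⟩ := exists_simple (F := F) (N := N')
  obtain rfl : f = f' := Multiset.singleton_inj.1 (hf.symm.trans hf')
  by_cases hfg : f = g
  · subst hfg
    rw [hg, Multiset.count_singleton_self, mul_one, ← hfc, Nat.card_congr e'.toEquiv,
      ← card_end_quotient]
    exact Nat.card_congr (LinearEquiv.arrowCongr e e').toEquiv
  · rw [hg, Multiset.count_singleton, if_neg hfg, mul_zero, pow_zero]
    refine Nat.card_eq_one_iff_unique.2 ⟨⟨fun a b => ?_⟩, ⟨0⟩⟩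
    have h0 : ∀ a : N →ₗ[F[X]] N', a = 0 := fun a => by
      refine (LinearMap.bijective_or_eq_zero a).resolve_left fun hb => hfg ?_
      have := cs_congr (F := F) (LinearEquiv.ofBijective a hb)
      rw [hg, hf] at this
      exact (Multiset.singleton_inj.1 this).symm
    rw [h0 a, h0 b]

end

section lattice

variable {M : Type*} [AddCommGroup M] [Module F[X] M] [Module F M] [IsScalarTower F F[X] M] [Finite M]

theorem prod_equiv {S V W : Submodule F[X] M} (hd : Disjoint S V) (hs : S ⊔ V = W) :
    ∃ e : (S × V) ≃ₗ[F[X]] W, ∀ z, ((e z : W) : M) = (z.1 : M) + (z.2 : M) := by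
  refine ⟨LinearEquiv.ofBijective
    ((Submodule.inclusion (hs ▸ le_sup_left)).coprod (Submodule.inclusion (hs ▸ le_sup_right))) ⟨?_, ?_⟩, fun z => rfl⟩
  · rintro ⟨a, b⟩ ⟨a', b'⟩ h
    have h' : (a : M) + b = (a' : M) + b' := congrArg Subtype.val h
    have h2 : (a : M) - a' = (b' : M) - b := by
      rw [sub_eq_sub_iff_add_eq_add, h', add_comm]
    have h3 : (a : M) - a' = 0 :=
      Submodule.disjoint_def.1 hd _ (S.sub_mem a.2 a'.2) (h2 ▸ V.sub_mem b'.2 b.2)
    have h4 : (b' : M) - b = 0 := h2 ▸ h3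
    exact Prod.ext (Subtype.ext (sub_eq_zero.1 h3)) (Subtype.ext (sub_eq_zero.1 h4).symm)
  · rintro ⟨w, hw⟩
    obtain ⟨a, ha, b, hb, rfl⟩ := Submodule.mem_sup.1 (hs.symm ▸ hw : w ∈ S ⊔ V)
    exact ⟨(⟨a, ha⟩, ⟨b, hb⟩), rfl⟩

theorem cs_sup {S V W : Submodule F[X] M} (hd : Disjoint S V) (hs : S ⊔ V = W) :
    cs (F := F) W = cs S + cs V := by
  obtain ⟨e, -⟩ := prod_equiv hd hs
  rw [← cs_congr e, cs_prod]

/-- the complements of `S` in `W` -/
theorem card_complements {S V₀ W : Submodule F[X] M} (hd : Disjoint V₀ S) (hs : V₀ ⊔ S = W) :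
    Nat.card {U : Submodule F[X] M // Disjoint U S ∧ U ⊔ S = W} = Nat.card (V₀ →ₗ[F[X]] S) := by
  let Φ : (V₀ →ₗ[F[X]] S) → Submodule F[X] M := fun φ => LinearMap.range (V₀.subtype + S.subtype.comp φ)
  have hmem : ∀ φ, Disjoint (Φ φ) S ∧ Φ φ ⊔ S = W := by
    intro φ
    refine ⟨Submodule.disjoint_def.2 ?_, le_antisymm (sup_le ?_ (hs ▸ le_sup_right)) ?_⟩
    · rintro x ⟨v, rfl⟩ hx
      have hv : (v : M) ∈ S := by
        have := S.sub_mem hx (φ v).2
        simpa using this
      have : v = 0 := Subtype.ext (Submodule.disjoint_def.1 hd _ v.2 hv)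
      simp [this]
    · rintro x ⟨v, rfl⟩
      exact W.add_mem ((hs ▸ le_sup_left : V₀ ≤ W) v.2) ((hs ▸ le_sup_right : S ≤ W) (φ v).2)
    · rw [← hs]
      refine sup_le (fun v hv => ?_) le_sup_right
      refine Submodule.mem_sup.2 ⟨_, ⟨⟨v, hv⟩, rfl⟩, -(φ ⟨v, hv⟩ : M), S.neg_mem (φ _).2, ?_⟩
      simp
  refine (Nat.card_eq_of_bijective (fun φ => (⟨Φ φ, hmem φ⟩ : {U : Submodule F[X] M // Disjoint U S ∧ U ⊔ S = W})) ⟨?_, ?_⟩).symm
  · intro φ ψ h
    have h' : Φ φ = Φ ψ := congrArg Subtype.val h
    refine LinearMap.ext fun v => ?_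
    obtain ⟨v', hv'⟩ := (h' ▸ LinearMap.mem_range_self _ v : (V₀.subtype + S.subtype.comp φ) v ∈ Φ ψ)
    have he : (v' : M) + (ψ v' : M) = (v : M) + (φ v : M) := hv'
    have h2 : (v' : M) - v = (φ v : M) - ψ v' := by
      rw [sub_eq_sub_iff_add_eq_add, he, add_comm]
    have h3 : (v' : M) - v = 0 :=
      Submodule.disjoint_def.1 hd _ (V₀.sub_mem v'.2 v.2) (h2 ▸ S.sub_mem (φ v).2 (ψ v').2)
    obtain rfl : v' = v := Subtype.ext (sub_eq_zero.1 h3)
    exact (Subtype.ext (add_left_cancel he)).symm
  · rintro ⟨U, hUd, hUs⟩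
    obtain ⟨e, he⟩ := prod_equiv hUd hUs
    let φ : V₀ →ₗ[F[X]] S :=
      -((LinearMap.snd F[X] U S).comp (e.symm.toLinearMap.comp (Submodule.inclusion (hs ▸ le_sup_left : V₀ ≤ W))))
    refine ⟨φ, Subtype.ext ?_⟩
    show Φ φ = U
    have hle : Φ φ ≤ U := by
      rintro x ⟨v, rfl⟩
      have hdec : ∀ z : U × S, ((e z : W) : M) = (z.1 : M) + (z.2 : M) := he
      have := hdec (e.symm (Submodule.inclusion (hs ▸ le_sup_left : V₀ ≤ W) v))
      rw [LinearEquiv.apply_symm_apply] at this
      change (v : M) + -((e.symm _).2 : M) ∈ U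
      rw [show (v : M) = _ from this]
      simp
    refine le_antisymm hle fun u hu => ?_
    have hu' : u ∈ Φ φ ⊔ S := by rw [(hmem φ).2, ← hUs]; exact Submodule.mem_sup_left hu
    obtain ⟨a, ha, b, hb, rfl⟩ := Submodule.mem_sup.1 hu'
    have hb0 : b = 0 := Submodule.disjoint_def.1 hUd _ (by simpa using U.sub_mem hu (hle ha)) hb
    simpa [hb0] using ha

theorem exists_complement [IsSemisimpleModule F[X] M] {S W : Submodule F[X] M} (h : S ≤ W) :
    ∃ V : Submodule F[X] M, Disjoint V S ∧ V ⊔ S = W := by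
  obtain ⟨C, hC⟩ := exists_isCompl S
  refine ⟨C ⊓ W, (hC.disjoint.symm).mono_left inf_le_left, ?_⟩
  rw [sup_comm, ← sup_inf_assoc_of_le C h, hC.sup_eq_top, top_inf_eq]

/-- the weight of a multiset of polynomials -/
noncomputable def wt (q : ℕ) (s : Multiset F[X]) : ℂ :=
  ∏ f ∈ s.toFinset, (-1 : ℂ) ^ s.count f * (q : ℂ) ^ (f.natDegree * (s.count f).choose 2)

theorem wt_zero (q : ℕ) : wt (F := F) q 0 = 1 := by simp [wt]

theorem wt_cons (q : ℕ) (f : F[X]) (s : Multiset F[X]) :
    wt q (f ::ₘ s) = -((q : ℂ) ^ (f.natDegree * s.count f)) * wt q s := by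
  classical
  let T : Finset F[X] := insert f s.toFinset
  have h1 : ∀ t : Multiset F[X], t.toFinset ⊆ T →
      wt q t = ∏ g ∈ T, (-1 : ℂ) ^ t.count g * (q : ℂ) ^ (g.natDegree * (t.count g).choose 2) := by
    intro t ht
    refine Finset.prod_subset ht fun g _ hg => ?_
    rw [Multiset.count_eq_zero.2 (fun h => hg (Multiset.mem_toFinset.2 h))]
    simp
  rw [h1 (f ::ₘ s) (by simp [T]), h1 s (Finset.subset_insert _ _)]
  rw [← Finset.mul_prod_erase T _ (Finset.mem_insert_self f _),
    ← Finset.mul_prod_erase T _ (Finset.mem_insert_self f _), ← mul_assoc]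
  refine congrArg₂ (· * ·) ?_ (Finset.prod_congr rfl fun g hg => ?_)
  · rw [Multiset.count_cons_self, Nat.choose_succ_succ', Nat.choose_one_right, pow_succ, Nat.mul_add, pow_add]
    ring
  · rw [Multiset.count_cons_of_ne (Finset.ne_of_mem_erase hg)]

theorem card_hom [IsSemisimpleModule F[X] M] {S : Submodule F[X] M} [IsSimpleModule F[X] S] {f : F[X]}
    (hf : cs (F := F) S = {f}) (V : Submodule F[X] M) :
    Nat.card (V →ₗ[F[X]] S) = Nat.card F ^ (f.natDegree * (cs (F := F) V).count f) := by
  classical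
  induction V using WellFoundedLT.induction with
  | _ V ih =>
    rcases eq_bot_or_exists_atom_le V with rfl | ⟨A, hA, hAV⟩
    · rw [cs_subsingleton, Multiset.count_zero, mul_zero, pow_zero, Nat.card_eq_one_iff_unique]
      exact ⟨⟨fun a b => LinearMap.ext fun x => by rw [Subsingleton.elim x 0, map_zero, map_zero]⟩, ⟨0⟩⟩
    obtain ⟨C, hd, hs⟩ := exists_complement hAV
    haveI : IsSimpleModule F[X] A := isSimpleModule_iff_isAtom.2 hA
    have hlt : C < V := lt_of_le_of_ne (hs ▸ le_sup_left) fun h => hA.1 (by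
      rw [← disjoint_self]
      exact hd.mono_left (h ▸ hAV))
    obtain ⟨e, -⟩ := prod_equiv hd.symm (show A ⊔ C = V by rw [sup_comm, hs])
    rw [cs_sup hd.symm (show A ⊔ C = V by rw [sup_comm, hs]), Multiset.count_add, Nat.mul_add, pow_add,
      ← card_hom_simple hf, ← ih C hlt, ← Nat.card_prod]
    exact Nat.card_congr ((LinearEquiv.arrowCongr e.symm (LinearEquiv.refl _ _)).toEquiv.trans
      (LinearMap.coprodEquiv (S := F[X])).symm.toEquiv)

theorem sum_wt_eq_zero [IsSemisimpleModule F[X] M] [Fintype (Submodule F[X] M)]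
    [DecidableLE (Submodule F[X] M)] {W : Submodule F[X] M} (hW : W ≠ ⊥) :
    ∑ U ∈ Finset.univ.filter (fun U : Submodule F[X] M => U ≤ W), wt (Nat.card F) (cs (F := F) U) = 0 := by
  classical
  obtain ⟨S, hS, hSW⟩ := (eq_bot_or_exists_atom_le W).resolve_left hW
  haveI : IsSimpleModule F[X] S := isSimpleModule_iff_isAtom.2 hS
  obtain ⟨f, hf, -, -⟩ := exists_simple (F := F) (N := S)
  rw [← Finset.sum_fiberwise_of_maps_to (g := fun U => U ⊔ S)
    (t := Finset.univ.filter fun X : Submodule F[X] M => S ≤ X ∧ X ≤ W)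
    (fun U hU => by
      simp only [Finset.mem_filter, Finset.mem_univ, true_and] at hU ⊢
      exact ⟨le_sup_right, sup_le hU hSW⟩)]
  refine Finset.sum_eq_zero fun X hX => ?_
  simp only [Finset.mem_filter, Finset.mem_univ, true_and] at hX
  rw [Finset.filter_filter]
  obtain ⟨V₀, hd, hs⟩ := exists_complement hX.1
  have hset : Finset.univ.filter (fun U : Submodule F[X] M => U ≤ W ∧ U ⊔ S = X) =
      insert X (Finset.univ.filter fun U : Submodule F[X] M => Disjoint U S ∧ U ⊔ S = X) := by
    ext U
    simp only [Finset.mem_filter, Finset.mem_univ, true_and, Finset.mem_insert]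
    constructor
    · rintro ⟨-, hU⟩
      rcases hS.le_iff.1 (inf_le_right : U ⊓ S ≤ S) with h | h
      · exact Or.inr ⟨disjoint_iff.2 h, hU⟩
      · refine Or.inl ?_
        rw [← hU]
        exact (sup_eq_left.2 (h ▸ inf_le_left)).symm
    · rintro (rfl | ⟨-, hU⟩)
      · exact ⟨hX.2, sup_eq_left.2 hX.1⟩
      · exact ⟨(hU ▸ le_sup_left : U ≤ X).trans hX.2, hU⟩
  rw [hset, Finset.sum_insert (by
    simp only [Finset.mem_filter, Finset.mem_univ, true_and]
    rintro ⟨h, -⟩
    exact hS.1 (disjoint_self.1 (h.mono_left hX.1)))]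
  have hcsV : ∀ U ∈ Finset.univ.filter (fun U : Submodule F[X] M => Disjoint U S ∧ U ⊔ S = X),
      wt (Nat.card F) (cs (F := F) U) = wt (Nat.card F) (cs (F := F) V₀) := by
    intro U hU
    simp only [Finset.mem_filter, Finset.mem_univ, true_and] at hU
    exact congrArg _ (add_right_cancel ((cs_sup hU.1 hU.2).symm.trans (cs_sup hd hs)))
  rw [Finset.sum_congr rfl hcsV, Finset.sum_const, ← Fintype.card_subtype, ← Nat.card_eq_fintype_card,
    card_complements hd hs, card_hom hf, cs_sup hd hs, hf,
    show cs (F := F) V₀ + {f} = f ::ₘ cs (F := F) V₀ by rw [add_comm, Multiset.singleton_add], wt_cons,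
    nsmul_eq_mul, Nat.cast_pow]
  ring

theorem wt_cs_bot (q : ℕ) : wt q (cs (F := F) (⊥ : Submodule F[X] M)) = 1 := by
  rw [cs_subsingleton, wt_zero]

/-- The closed form of the signed weight. -/
theorem neg_one_pow_mul_wt (q : ℕ) (g : F[X]) (hg : g.Monic) :
    (-1 : ℂ) ^ g.natDegree * wt q (normalizedFactors g) =
      ∏ f ∈ (normalizedFactors g).toFinset,
        (-1 : ℂ) ^ ((f.natDegree - 1) * (normalizedFactors g).count f) *
          (q : ℂ) ^ (f.natDegree * (normalizedFactors g).count f * ((normalizedFactors g).count f - 1) / 2) := by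
  classical
  set s := normalizedFactors g with hs
  have hdeg : g.natDegree = ∑ f ∈ s.toFinset, s.count f * f.natDegree := by
    conv_lhs => rw [← hg.normalize_eq_self, ← prod_normalizedFactors_eq hg.ne_zero]
    rw [Polynomial.natDegree_multiset_prod _ (zero_notMem_normalizedFactors g), ← hs,
      Finset.sum_multiset_map_count]
    exact Finset.sum_congr rfl fun f _ => smul_eq_mul ..
  rw [hdeg, wt, ← Finset.prod_pow_eq_pow_sum, ← Finset.prod_mul_distrib]
  refine Finset.prod_congr rfl fun f hf => ?_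
  have hd : 0 < f.natDegree :=
    (irreducible_of_normalized_factor f (Multiset.mem_toFinset.1 hf)).natDegree_pos
  rw [← mul_assoc, ← pow_add, mul_assoc f.natDegree (s.count f),
    Nat.mul_div_assoc _ (Nat.even_mul_pred_self _).two_dvd, ← Nat.choose_two_right]
  congr 1
  obtain ⟨k, hk⟩ : ∃ k, f.natDegree = k + 1 := ⟨_, (Nat.sub_add_cancel hd).symm⟩
  rw [hk, Nat.add_sub_cancel, show s.count f * (k + 1) + s.count f = k * s.count f + 2 * s.count f by ring,
    pow_add, pow_mul _ 2]
  norm_num

end lattice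

end Cfsg.Agent.StGL
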